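import Groth.Prelude.Def_CohB1
import Groth.Agent.H30.IdealLemmas
import Groth.Agent.H30.SysLemmas
import Groth.Agent.H78.Formal.PullSys

/-!
# Adic towers of schemes over the quotients of a ring

A tower is a system `X k` over `Spec (A / J^(k+1))` with cartesian transition squares.
-/

set_option autoImplicit false
set_option linter.style.haveILetI false

noncomputable section

universe u

open CategoryTheory Limits AlgebraicGeometry Opposite TopologicalSpace

namespace Groth.Agent.Lib.Exchange.Thick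

open Groth.Agent.Lib Groth.Agent.H30.IdealLemmas Groth.Agent.H78.Formal.Sections

variable {A : Type u} [CommRing A]

/-- A system of schemes over the `Spec (A / J^(k+1))` with cartesian squares. -/
structure Tower (J : Ideal A) where
  /-- The levels. -/
  X : ℕ → Scheme.{u}
  /-- The structure maps. -/
  p : ∀ k, X k ⟶ Spec (CommRingCat.of (A ⧸ J ^ (k + 1)))
  /-- The transition maps. -/
  i : ∀ k, X k ⟶ X (k + 1)
  cart : ∀ k, IsPullback (i k) (p k) (p (k + 1)) (CohB1.specQuotTrans J k)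

namespace Tower

variable {J : Ideal A} (T : Tower J)

/-- The map to `Spec A`. -/
def q (k : ℕ) : T.X k ⟶ Spec (CommRingCat.of A) := T.p k ≫ CohB1.specQuot J k

instance instOver (k : ℕ) : (T.X k).Over (Spec (CommRingCat.of A)) := ⟨T.q k⟩

@[reassoc]
lemma i_q (k : ℕ) : T.i k ≫ T.q (k + 1) = T.q k := by
  rw [q, q, ← Category.assoc, (T.cart k).w, Category.assoc, CohB1.specQuotTrans_specQuot]

lemma i_over (k : ℕ) : T.i k ≫ (T.X (k + 1) ↘ Spec (CommRingCat.of A)) =
    T.X k ↘ Spec (CommRingCat.of A) := T.i_q k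

instance isClosedImmersion_specQuotTrans (k : ℕ) : IsClosedImmersion (CohB1.specQuotTrans J k) :=
  IsClosedImmersion.spec_of_surjective _
    (Ideal.Quotient.factor_surjective (Ideal.pow_le_pow_right (Nat.le_succ (k + 1))))

instance isClosedImmersion_i (k : ℕ) : IsClosedImmersion (T.i k) :=
  MorphismProperty.of_isPullback (P := @IsClosedImmersion) (T.cart k).flip
    (isClosedImmersion_specQuotTrans k)

/-- The map from the bottom level to the base. -/
def s (J : Ideal A) :
    ∀ k : ℕ, Spec (CommRingCat.of (A ⧸ J ^ (0 + 1))) ⟶ Spec (CommRingCat.of (A ⧸ J ^ (k + 1)))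
  | 0 => 𝟙 _
  | k + 1 => s J k ≫ CohB1.specQuotTrans J k

lemma s_specQuot : ∀ k, s J k ≫ CohB1.specQuot J k = CohB1.specQuot J 0
  | 0 => Category.id_comp _
  | k + 1 => by rw [s, Category.assoc, CohB1.specQuotTrans_specQuot, s_specQuot k]

/-- The map from the bottom level. -/
def toT : ∀ k : ℕ, T.X 0 ⟶ T.X k
  | 0 => 𝟙 _
  | k + 1 => toT k ≫ T.i k

lemma toT_cart : ∀ k, IsPullback (T.toT k) (T.p 0) (T.p k) (s J k)
  | 0 => by
    haveI : IsIso (T.toT 0) := inferInstanceAs (IsIso (𝟙 (T.X 0)))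
    haveI : IsIso (s J 0) := inferInstanceAs (IsIso (𝟙 _))
    exact IsPullback.of_horiz_isIso ⟨(Category.id_comp _).trans (Category.comp_id _).symm⟩
  | k + 1 => (toT_cart k).paste_horiz (T.cart k)

@[reassoc]
lemma toT_q (k : ℕ) : T.toT k ≫ T.q k = T.q 0 := by
  rw [q, q, ← Category.assoc, (T.toT_cart k).w, Category.assoc, s_specQuot]

lemma toT_over (k : ℕ) : T.toT k ≫ (T.X k ↘ Spec (CommRingCat.of A)) =
    T.X 0 ↘ Spec (CommRingCat.of A) := T.toT_q k

instance isClosedImmersion_toT : ∀ k : ℕ, IsClosedImmersion (T.toT k)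
  | 0 => inferInstanceAs (IsClosedImmersion (𝟙 _))
  | k + 1 => by
    haveI := isClosedImmersion_toT k
    exact inferInstanceAs (IsClosedImmersion (T.toT k ≫ T.i k))

lemma ker_of_cart {Y : Scheme.{u}} {n m : ℕ} {f : Y ⟶ T.X m}
    {g : Y ⟶ Spec (CommRingCat.of (A ⧸ J ^ (n + 1)))}
    {t : Spec (CommRingCat.of (A ⧸ J ^ (n + 1))) ⟶ Spec (CommRingCat.of (A ⧸ J ^ (m + 1)))}
    [IsClosedImmersion t] (h : IsPullback f g (T.p m) t)
    (ht : t ≫ CohB1.specQuot J m = CohB1.specQuot J n) :
    f.ker = (FSch.idealSpec A J).comap (T.q m) ^ (n + 1) := by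
  have hk : t.ker = (CohB1.specQuot J n).ker.comap (CohB1.specQuot J m) :=
    ker_eq_comap_of_comp t (CohB1.specQuot J m) _ ht
  rw [← Groth.Agent.Lib.Ideal.Comap.comap_pow, q, Scheme.IdealSheafData.comap_comp,
    ← ker_specQuot, ← hk, ← Scheme.IdealSheafData.ker_fst_of_isClosedImmersion,
    ← h.isoPullback_hom_fst, Scheme.Hom.ker_comp_of_isIso]

lemma ker_i (k : ℕ) : (T.i k).ker = (FSch.idealSpec A J).comap (T.q (k + 1)) ^ (k + 1) :=
  T.ker_of_cart (T.cart k) (CohB1.specQuotTrans_specQuot J k)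

instance isClosedImmersion_s : ∀ k : ℕ, IsClosedImmersion (s J k)
  | 0 => inferInstanceAs (IsClosedImmersion (𝟙 _))
  | k + 1 => by
    haveI := isClosedImmersion_s k
    exact inferInstanceAs (IsClosedImmersion (s J k ≫ CohB1.specQuotTrans J k))

lemma ker_toT (k : ℕ) : (T.toT k).ker = (FSch.idealSpec A J).comap (T.q k) ^ 1 :=
  T.ker_of_cart (T.toT_cart k) (s_specQuot k)

lemma ideal_comap_q (k : ℕ) (U : (T.X k).affineOpens) :
    ((FSch.idealSpec A J).comap (T.q k)).ideal U = sIdeal J U.1 := by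
  rw [Groth.Agent.Lib.Ideal.Comap.ideal_comap (T.q k) _ ⟨⊤, isAffineOpen_top _⟩ U le_top,
    idealSpec_ideal_top, Ideal.map_map]
  rfl

lemma ker_i_ideal (k : ℕ) (U : (T.X (k + 1)).affineOpens) :
    (T.i k).ker.ideal U = sIdeal J U.1 ^ (k + 1) := by
  rw [ker_i, Scheme.IdealSheafData.ideal_pow, Pi.pow_apply, ideal_comap_q]

lemma ker_toT_ideal (k : ℕ) (U : (T.X k).affineOpens) : (T.toT k).ker.ideal U = sIdeal J U.1 := by
  rw [ker_toT, Scheme.IdealSheafData.ideal_pow, Pi.pow_apply, pow_one, ideal_comap_q]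

/-- The `(k+1)`-st power of `J` vanishes on the `k`-th level. -/
lemma sIdeal_pow_eq_bot (k : ℕ) (U : (T.X k).Opens) : sIdeal J U ^ (k + 1) = ⊥ := by
  rw [← sIdeal_pow, sIdeal, eq_bot_iff, Ideal.map_le_iff_le_comap]
  intro a ha
  rw [Ideal.mem_comap, Ideal.mem_bot]
  have h0 : (CohB1.specQuot J k).appTop ((Scheme.ΓSpecIso (CommRingCat.of A)).inv a) = 0 := by
    have := congrArg (fun φ => φ.hom a)
      (Scheme.ΓSpecIso_inv_naturality (CommRingCat.ofHom (Ideal.Quotient.mk (J ^ (k + 1)))))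
    simp only [CommRingCat.hom_comp, RingHom.comp_apply] at this
    refine this.symm.trans ?_
    rw [show (CommRingCat.ofHom (Ideal.Quotient.mk (J ^ (k + 1)))).hom a = 0 from
      Ideal.Quotient.eq_zero_iff_mem.mpr ha]
    exact map_zero _
  show sMap A U a = 0
  change (T.X k).presheaf.map (homOfLE (le_top (a := U))).op
    ((T.p k ≫ CohB1.specQuot J k).appTop ((Scheme.ΓSpecIso (CommRingCat.of A)).inv a)) = 0
  rw [Scheme.Hom.comp_appTop]
  change (T.X k).presheaf.map _ ((T.p k).appTop ((CohB1.specQuot J k).appTop _)) = 0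
  rw [h0, map_zero, map_zero]

lemma surjective_toT (k : ℕ) : Surjective (T.toT k) := by
  refine ⟨fun x => ?_⟩
  have hr : ((T.toT k).ker.support : Set (T.X k)) = Set.range (T.toT k) :=
    support_ker_eq_range _
  have hx : x ∈ ((T.toT k).ker.support : Set (T.X k)) := by
    obtain ⟨U, hU, hxU, -⟩ := exists_isAffineOpen_mem_and_subset (U := ⊤) (x := x) trivial
    rw [SetLike.mem_coe, Scheme.IdealSheafData.mem_support_iff_of_mem (U := ⟨U, hU⟩) hxU,
      Scheme.mem_zeroLocus_iff]
    intro f hf hxf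
    rw [SetLike.mem_coe, ker_toT_ideal] at hf
    have h0 : f ^ (k + 1) = 0 := by
      have := Ideal.pow_mem_pow hf (k + 1)
      rwa [T.sIdeal_pow_eq_bot k U, Ideal.mem_bot] at this
    have hu := ((T.X k).mem_basicOpen f x hxU).1 hxf
    have := hu.pow (k + 1)
    rw [← map_pow, h0, map_zero] at this
    exact not_isUnit_zero this
  rw [hr] at hx
  exact hx

theorem isLocallyNoetherian [IsNoetherianRing A] [IsLocallyNoetherian (T.X 0)] (k : ℕ) :
    IsLocallyNoetherian (T.X k) := by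
  haveI := T.surjective_toT k
  refine Groth.Agent.H30.SysLemmas.isLocallyNoetherian_of_thickening (T.toT k)
    (id : (T.X k).affineOpens → (T.X k).affineOpens) (iSup_affineOpens_eq_top _) fun V => ?_
  rw [ker_toT_ideal]
  exact Ideal.FG.map (IsNoetherian.noetherian J) _

end Tower

end Groth.Agent.Lib.Exchange.Thick
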