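import Groth.Agent.Lib.Exchange.Thick.Modules
import Groth.Agent.H78.Existence.Vanish

/-!
# Uniform vanishing of the twists on an adic tower
-/

set_option autoImplicit false
set_option linter.style.haveILetI false

noncomputable section

universe u

open CategoryTheory Limits AlgebraicGeometry Opposite TopologicalSpace

namespace Groth.Agent.Lib.Exchange.Thick

open Groth.Agent.Lib Groth.Agent.Lib.Curves.LES Groth.Agent.Lib.TensorMod.Basic
open Groth.Agent.H78.Existence.Vanish (tw isEquivalence_tw shortExact_tw)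

section Transfer

variable (A : Type u) [CommRing A] {Z X : Scheme.{u}} (f : Z ⟶ X) [IsClosedImmersion f]
  [IsLocallyNoetherian X]

/-- The projection formula for a twist by a power of an invertible module. -/
def pushTwistIso {L : X.Modules} (hL : PicF.IsInvertible L) (N : Z.Modules) {L' : Z.Modules}
    (τ : (Scheme.Modules.pullback f).obj L ≅ L') (d : ℕ) :
    CohB1.tensorMod ((Scheme.Modules.pushforward f).obj N) (CohB1.tensorPow L d) ≅
      (Scheme.Modules.pushforward f).obj (CohB1.tensorMod N (CohB1.tensorPow L' d)) :=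
  comm _ _ ≪≫ (Modules.ProjFormula.projIso f (E := CohB1.tensorPow L d)
      (Modules.DualBasis.hasDBases_of_isFinLocFree (TensorMod.LocFree.of_rank
        (TensorMod.LocFree.of_isInvertible
          (TensorMod.Invertible.isInvertible_tensorPow hL d))))).app N ≪≫
    (Scheme.Modules.pushforward f).mapIso (comm _ _ ≪≫ tensorIso (Iso.refl N)
      (Ample.Pow.pullbackPow f L d ≪≫ Ample.Pow.powIso τ d))

include A in
/-- Vanishing passes from a closed subscheme to the direct image. -/
theorem subsingleton_push [X.Over (Spec (CommRingCat.of A))] {L : X.Modules}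
    (hL : PicF.IsInvertible L) {N : Z.Modules} (hN : Coh.IsCoh N) {L' : Z.Modules}
    (hL' : PicF.IsInvertible L') (τ : (Scheme.Modules.pullback f).obj L ≅ L') (d q : ℕ)
    (h : Subsingleton (Coh.HH Z (CohB1.tensorMod N (CohB1.tensorPow L' d)) q)) :
    Subsingleton (Coh.HH X
      (CohB1.tensorMod ((Scheme.Modules.pushforward f).obj N) (CohB1.tensorPow L d)) q) := by
  haveI : IsLocallyNoetherian Z := LocallyOfFiniteType.isLocallyNoetherian f
  haveI : (CohB1.tensorMod N (CohB1.tensorPow L' d)).IsQuasicoherent :=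
    (CohBasics.Closure.isCoh_of_iso (comm _ N) (Snapper.Twist.isCoh_twist
      (TensorMod.Invertible.isInvertible_tensorPow hL' d) hN)).1
  have h1 : Subsingleton (Coh.HH X ((Coh.push f).obj (CohB1.tensorMod N (CohB1.tensorPow L' d))) q) :=
    (ZarCoh.Morph.affineEquiv f _ q).toEquiv.subsingleton
  exact @Equiv.subsingleton _ _ (isoK A (pushTwistIso f hL N τ d) q).toEquiv h1

end Transfer

variable {A : Type u} [CommRing A] {J : Ideal A} {T : Tower J}

/-- Compatible invertible modules pull back to the bottom level. -/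
def pullToT (L : ∀ k, (T.X k).Modules)
    (φ : ∀ k, (Scheme.Modules.pullback (T.i k)).obj (L (k + 1)) ≅ L k) :
    ∀ k, (Scheme.Modules.pullback (T.toT k)).obj (L k) ≅ L 0
  | 0 => (Scheme.Modules.pullbackId (T.X 0)).app (L 0)
  | k + 1 => (Scheme.Modules.pullbackComp (T.toT k) (T.i k)).symm.app (L (k + 1)) ≪≫
      (Scheme.Modules.pullback (T.toT k)).mapIso (φ k) ≪≫ pullToT L φ k

variable [IsNoetherianRing A]

/-- **Uniform vanishing.** -/
theorem ModSys.exists_vanish (hp : IsProper (T.p 0)) [∀ k, IsLocallyNoetherian (T.X k)]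
    (L : ∀ k, (T.X k).Modules) (hL : ∀ k, PicF.IsInvertible (L k))
    (φ : ∀ k, (Scheme.Modules.pullback (T.i k)).obj (L (k + 1)) ≅ L k) (ha : CohB1.IsAmple (L 0))
    (F : ModSys T) :
    ∃ d₀ : ℕ, ∀ d, d₀ ≤ d → ∀ k q : ℕ,
      Subsingleton (Coh.HH (T.X k) (CohB1.tensorMod (F.M k) (CohB1.tensorPow (L k) d)) (q + 1)) := by
  letI : (T.X 0).Over (Spec (CommRingCat.of (A ⧸ J ^ (0 + 1)))) := ⟨T.p 0⟩
  haveI : IsProper (T.X 0 ↘ Spec (CommRingCat.of (A ⧸ J ^ (0 + 1)))) := hp
  obtain ⟨r, f, hspan⟩ := Submodule.fg_iff_exists_fin_generating_family.1 (IsNoetherian.noetherian J)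
  have hJ : J = Ideal.span (Set.range f) := hspan.symm
  have hf : ∀ j, f j ∈ J := fun j => hJ ▸ Ideal.subset_span ⟨j, rfl⟩
  obtain ⟨d₀, hd₀⟩ := Groth.Agent.H78.Existence.Vanish.exists_vanish (A ⧸ J ^ (0 + 1)) ha
    (F.sys f hf) (F.gen_sys f hf hJ)
  refine ⟨d₀, fun d hd => ?_⟩
  have hK : ∀ n q, Subsingleton
      (Coh.HH (T.X n) (CohB1.tensorMod (F.K n) (CohB1.tensorPow (L n) d)) (q + 1)) := fun n q =>
    @Equiv.subsingleton _ _
      (isoK A (tensorIso (F.e n) (Iso.refl (CohB1.tensorPow (L n) d))) (q + 1)).toEquiv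
      (subsingleton_push A (T.toT n) (hL n) (F.isCoh_G n) (hL 0) (pullToT L φ n) d (q + 1)
        (hd₀ n d hd q))
  intro k
  induction k with
  | zero => exact hK 0
  | succ k ih =>
    intro q
    let S : ShortComplex (T.X (k + 1)).Modules :=
      ShortComplex.mk (kernel.ι (F.t k)) (F.t k) (kernel.condition _)
    haveI := F.epi_t k
    have hS : S.ShortExact :=
      { exact := S.exact_of_f_is_kernel (kernelIsKernel (F.t k))
        mono_f := inferInstanceAs (Mono (kernel.ι (F.t k)))
        epi_g := inferInstanceAs (Epi (F.t k)) }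
    haveI := isEquivalence_tw (hL (k + 1)) d
    haveI : (tw (L (k + 1)) d).Additive := Functor.additive_of_preserves_binary_products _
    have hS' := shortExact_tw (hL (k + 1)) hS d
    haveI h1 : Subsingleton (Coh.HH (T.X (k + 1)) (S.map (tw (L (k + 1)) d)).X₁ (q + 1)) :=
      hK (k + 1) q
    haveI h3 : Subsingleton (Coh.HH (T.X (k + 1)) (S.map (tw (L (k + 1)) d)).X₃ (q + 1)) :=
      subsingleton_push A (T.i k) (hL (k + 1)) (F.coh k) (hL k) (φ k) d (q + 1) (ih q)
    refine subsingleton_of_forall_eq 0 fun z => ?_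
    obtain ⟨w, hw⟩ := ((exactK₂ A hS' (q + 1)) z).mp (Subsingleton.elim _ _)
    rw [← hw, Subsingleton.elim w 0, map_zero]; rfl

end Groth.Agent.Lib.Exchange.Thick
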