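import Groth.Agent.Lib.Exchange.Thick.Basic
import Groth.Agent.H30.ModThick
import Groth.Agent.Lib.Cyc.PP.Push
import Groth.Agent.Lib.Cyc.FP.Stalk
import Groth.Agent.Lib.Cyc.Dev.Scheme

/-!
# The unit of a closed immersion on affine sections
-/

set_option autoImplicit false
set_option linter.style.haveILetI false

noncomputable section

universe u

open CategoryTheory Limits AlgebraicGeometry Opposite TopologicalSpace

namespace Groth.Agent.Lib.Exchange.Thick.Unit

open Groth.Agent.Lib Groth.Agent.Lib.CohBasics.Affine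

variable {Z X : Scheme.{u}} (i : Z ⟶ X) [IsClosedImmersion i] [IsLocallyNoetherian X]

/-- The unit at a module. -/
abbrev η (M : X.Modules) :
    M ⟶ (Scheme.Modules.pushforward i).obj ((Scheme.Modules.pullback i).obj M) :=
  (Scheme.Modules.pullbackPushforwardAdjunction i).unit.app M

variable {M : X.Modules}

lemma isCoh_pushPull (hM : Coh.IsCoh M) :
    Coh.IsCoh ((Scheme.Modules.pushforward i).obj ((Scheme.Modules.pullback i).obj M)) := by
  haveI : IsLocallyNoetherian Z := LocallyOfFiniteType.isLocallyNoetherian i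
  exact Cyc.PP.Push.isCoh_push i (Cyc.FP.Stalk.isCoh_pullback i hM)

lemma surjective_app (hM : Coh.IsCoh M) {V : X.Opens} (hV : IsAffineOpen V) :
    Function.Surjective ((η i M).app V) := by
  haveI := hM.1
  haveI := (isCoh_pushPull i hM).1
  haveI : Epi (η i M) := PushClosed.Unit.epi_unit i M
  exact QCoh.Closure.sections_surjective_of_epi _ hV

/-- On an affine open the kernel of the unit is the ideal times the sections. -/
theorem app_eq_zero_iff (hM : Coh.IsCoh M) {V : X.Opens} (hV : IsAffineOpen V) (s : Γ(M, V)) :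
    (η i M).app V s = 0 ↔
      s ∈ i.ker.ideal ⟨V, hV⟩ • (⊤ : Submodule Γ(X, V) Γ(M, V)) := by
  haveI := hM.1
  haveI := (isCoh_pushPull i hM).1
  let S := ShortComplex.mk (kernel.ι (η i M)) (η i M) (kernel.condition _)
  haveI : Mono S.f := inferInstanceAs (Mono (kernel.ι (η i M)))
  haveI : (kernel (η i M)).IsQuasicoherent := QCoh.Closure.isQCoh_kernel _
  constructor
  · intro hs
    obtain ⟨w, hw⟩ := QCoh.Closure.sections_exact (S := S)
      (S.exact_of_f_is_kernel (kernelIsKernel (η i M))) V s hs
    rw [← hw]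
    refine Groth.Agent.H30.ModThick.app_mem_ideal_smul_top i (kernel.ι (η i M)) ?_ hV w
    have h1 := (Scheme.Modules.pullback i).congr_map (kernel.condition (η i M))
    rw [Functor.map_comp, Functor.map_zero] at h1
    haveI : Mono ((Scheme.Modules.pullback i).map (η i M)) :=
      (SplitMono.mk _ ((Scheme.Modules.pullbackPushforwardAdjunction i).left_triangle_components M)).mono
    exact (cancel_mono _).1 (h1.trans zero_comp.symm)
  · intro hs
    refine (show i.ker.ideal ⟨V, hV⟩ • (⊤ : Submodule Γ(X, V) Γ(M, V)) ≤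
      LinearMap.ker (secₗ (η i M) V) from ?_) hs
    refine Submodule.smul_le.2 fun a ha t _ => ?_
    rw [LinearMap.mem_ker, map_smul]
    change (i.app V).hom a • (show Γ((Scheme.Modules.pullback i).obj M, i ⁻¹ᵁ V) from
      (η i M).app V t) = 0
    rw [Scheme.Hom.ker_apply, RingHom.mem_ker] at ha
    rw [ha, zero_smul]

end Groth.Agent.Lib.Exchange.Thick.Unit
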