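import Groth.Agent.Lib.Exchange.Thick.Twist
import Groth.Agent.Lib.HomSheaf.Basic
import Groth.Agent.H34.HOne
import Groth.Agent.H34.GlobGen
import Groth.Agent.Lib.FittSheaf.Basic
import Groth.Agent.Lib.Ample.GG

/-!
# Uniform global generation of the twists on an adic tower
-/

set_option autoImplicit false
set_option linter.style.haveILetI false

noncomputable section

universe u

open CategoryTheory Limits AlgebraicGeometry Opposite TopologicalSpace

namespace Groth.Agent.Lib.Exchange.Thick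

open Groth.Agent.Lib Groth.Agent.Lib.Modules Groth.Agent.H34.GlobGen
open Groth.Agent.Lib.TensorMod.Basic (tmap)
open Groth.Agent.H78.Formal.Sections
open Groth.Agent.H78.Existence.Vanish (tw isEquivalence_tw shortExact_tw)

section General

variable {Z X : Scheme.{u}}

/-- The direct image along a closed immersion of a globally generated module is globally generated. -/
theorem gg_push (f : Z ⟶ X) [IsClosedImmersion f] {N : Z.Modules}
    (h : Curv2.IsGloballyGenerated N) :
    Curv2.IsGloballyGenerated ((Scheme.Modules.pushforward f).obj N) := by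
  refine gg_of_gl_eq_top fun x => eq_top_iff.2 fun v _ => ?_
  by_cases hx : x ∈ Set.range f
  · obtain ⟨z, rfl⟩ := hx
    have key : ∀ w ∈ Gl N z, ∃ a ∈ Gl ((Scheme.Modules.pushforward f).obj N) (f z),
        DerivedOX.PullbackStalk.pushStalkMap f z N a = w := by
      intro w hw
      induction hw using Submodule.span_induction with
      | mem w hw =>
        obtain ⟨m, rfl⟩ := hw
        exact ⟨((Scheme.Modules.pushforward f).obj N).presheaf.germ ⊤ (f z) trivial m,
          Submodule.subset_span ⟨m, rfl⟩,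
          DerivedOX.PullbackStalk.pushStalkMap_germ f z N (U := ⊤) trivial m⟩
      | zero => exact ⟨0, Submodule.zero_mem _, map_zero _⟩
      | add a b _ _ ha hb =>
        obtain ⟨a', ha', rfl⟩ := ha
        obtain ⟨b', hb', rfl⟩ := hb
        exact ⟨a' + b', Submodule.add_mem _ ha' hb', map_add _ _ _⟩
      | smul c a _ ha =>
        obtain ⟨a', ha', rfl⟩ := ha
        obtain ⟨c', rfl⟩ := f.stalkMap_surjective z c
        exact ⟨c' • a', Submodule.smul_mem _ c' ha',
          DerivedOX.PullbackStalk.pushStalkMap_smul f z N c' a'⟩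
    obtain ⟨a, ha, hav⟩ := key (DerivedOX.PullbackStalk.pushStalkMap f z N v)
      (gl_eq_top_of_gg h z ▸ Submodule.mem_top)
    exact (PushClosed.Unit.bijective_pushStalkMap f N z).1 hav ▸ ha
  · haveI := PushClosed.Unit.subsingleton_stalk_push f N hx
    rw [Subsingleton.elim v 0]
    exact Submodule.zero_mem _

/-- Tensoring keeps the image of a map inside an ideal times the target. -/
theorem stalk_tmap_mem {K M P : X.Modules} (ι : K ⟶ M) (x : X) (I : Ideal (X.presheaf.stalk x))
    (h : ∀ v, StalkModule.stalkMapₗ ι x v ∈ I • (⊤ : Submodule (X.presheaf.stalk x) (M.presheaf.stalk x)))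
    (c : (CohB1.tensorMod K P).presheaf.stalk x) :
    StalkModule.stalkMapₗ (tmap ι (𝟙 P)) x c ∈
      I • (⊤ : Submodule (X.presheaf.stalk x) ((CohB1.tensorMod M P).presheaf.stalk x)) := by
  rw [← Submodule.Quotient.mk_eq_zero]
  have e : (Submodule.mkQ (I • (⊤ : Submodule (X.presheaf.stalk x)
      ((CohB1.tensorMod M P).presheaf.stalk x)))).comp (_root_.RefHull.stalkMapₗ (tmap ι (𝟙 P)) x) = 0 := by
    refine HomSheaf.Basic.stalk_ext_pair fun v w => ?_
    rw [LinearMap.comp_apply, LinearMap.zero_apply, HomSheaf.Basic.stalkMap_tmap, Submodule.mkQ_apply,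
      Submodule.Quotient.mk_eq_zero]
    have hv : _root_.RefHull.stalkMapₗ ι x v ∈
        I • (⊤ : Submodule (X.presheaf.stalk x) (M.presheaf.stalk x)) := h v
    have := Submodule.mem_map_of_mem
      (f := (RefHull.Tensor.pair (F := M) (G := P) x).flip (_root_.RefHull.stalkMapₗ (𝟙 P) x w)) hv
    rw [Submodule.map_smul''] at this
    exact Submodule.smul_mono le_rfl le_top this
  exact LinearMap.congr_fun e c

/-- Global generation of an extension from the surjectivity on global sections and Nakayama. -/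
theorem gg_of_nakayama [IsLocallyNoetherian X] {S : ShortComplex X.Modules} (hS : S.ShortExact)
    (hc : Coh.IsCoh S.X₂) (h1 : Subsingleton (Coh.HH X S.X₁ 1))
    (h3 : Curv2.IsGloballyGenerated S.X₃)
    (hf : ∀ x v, StalkModule.stalkMapₗ S.f x v ∈ IsLocalRing.maximalIdeal (X.presheaf.stalk x) •
      (⊤ : Submodule (X.presheaf.stalk x) (S.X₂.presheaf.stalk x))) :
    Curv2.IsGloballyGenerated S.X₂ := by
  refine gg_of_gl_eq_top fun x => ?_
  obtain ⟨U, hU, hxU⟩ := exists_affine x
  haveI := hc.1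
  haveI := CohBasics.Closure.finite_sections hc hU
  haveI hfin : Module.Finite (X.presheaf.stalk x) (S.X₂.presheaf.stalk x) :=
    FittSheaf.finite_stalk S.X₂ hU hxU
  refine eq_top_iff.2 (Submodule.le_of_le_smul_of_le_jacobson_bot (I := IsLocalRing.maximalIdeal _)
    hfin.fg_top (IsLocalRing.jacobson_eq_maximalIdeal ⊥ bot_ne_top).ge fun v _ => ?_)
  have hsurj := H34.HOne.app_top_surjective hS h1
  have hle : Gl S.X₃ x ≤ (Gl S.X₂ x).map (StalkModule.stalkMapₗ S.g x) := by
    rw [Gl, Submodule.span_le]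
    rintro _ ⟨m, rfl⟩
    obtain ⟨m', rfl⟩ := hsurj m
    exact ⟨_, Submodule.subset_span ⟨m', rfl⟩, StalkModule.stalkMapₗ_germ S.g _ m'⟩
  obtain ⟨w, hw, hwv⟩ := hle (gl_eq_top_of_gg h3 x ▸ Submodule.mem_top :
    StalkModule.stalkMapₗ S.g x v ∈ Gl S.X₃ x)
  obtain ⟨a, ha⟩ := (ShortComplex.ab_exact_iff _).1 ((Stalk.exact_iff_stalk S).1 hS.exact x) (v - w)
    (show StalkModule.stalkMapₗ S.g x (v - w) = 0 by rw [map_sub, hwv, sub_self])
  have hvw : v - w ∈ IsLocalRing.maximalIdeal (X.presheaf.stalk x) •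
      (⊤ : Submodule (X.presheaf.stalk x) (S.X₂.presheaf.stalk x)) := by
    rw [← ha]
    exact hf x a
  have := Submodule.add_mem_sup hw hvw
  rwa [add_sub_cancel] at this

end General

variable {A : Type u} [CommRing A] {J : Ideal A} {T : Tower J}

theorem ModSys.stalk_κ_mem [∀ k, IsLocallyNoetherian (T.X k)] (F : ModSys T) (k : ℕ) (x : T.X (k + 1))
    (v : (F.K (k + 1)).presheaf.stalk x) :
    StalkModule.stalkMapₗ (F.κ (k + 1)) x v ∈ IsLocalRing.maximalIdeal ((T.X (k + 1)).presheaf.stalk x) •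
      (⊤ : Submodule ((T.X (k + 1)).presheaf.stalk x) ((F.M (k + 1)).presheaf.stalk x)) := by
  haveI := (F.isCoh_K (k + 1)).1
  obtain ⟨U, hU, hx⟩ := exists_affine x
  obtain ⟨g, t, hg, e⟩ := StalkLoc.Basic.exists_smul_eq_germ hU hx v
  refine (Submodule.smul_mem_iff_of_isUnit _ (((T.X (k + 1)).mem_basicOpen g x hx).mp hg)).mp ?_
  rw [← map_smul, e, StalkModule.stalkMapₗ_germ]
  have h := (F.exists_κ_iff (k + 1) hU _).1 ⟨t, rfl⟩
  refine Submodule.smul_induction_on (p := fun s => (F.M (k + 1)).presheaf.germ U x hx s ∈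
    IsLocalRing.maximalIdeal ((T.X (k + 1)).presheaf.stalk x) •
      (⊤ : Submodule ((T.X (k + 1)).presheaf.stalk x) ((F.M (k + 1)).presheaf.stalk x)))
    h (fun c hc s _ => ?_) fun a b ha hb => ?_
  · rw [StalkModule.germ_smul]
    refine Submodule.smul_mem_smul ?_ trivial
    rw [IsLocalRing.mem_maximalIdeal, mem_nonunits_iff]
    intro hu
    have h0 : c ^ (k + 1 + 1) = 0 := by
      have h2 := Ideal.pow_mem_pow (Ideal.pow_le_self (Nat.succ_ne_zero k) hc) (k + 1 + 1)
      rwa [T.sIdeal_pow_eq_bot (k + 1) U, Ideal.mem_bot] at h2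
    have := hu.pow (k + 1 + 1)
    rw [← map_pow, h0, map_zero] at this
    exact not_isUnit_zero this
  · rw [map_add]; exact Submodule.add_mem _ ha hb

variable [IsNoetherianRing A]

/-- **Uniform global generation.** -/
theorem ModSys.exists_gg (hp : IsProper (T.p 0)) [∀ k, IsLocallyNoetherian (T.X k)]
    (L : ∀ k, (T.X k).Modules) (hL : ∀ k, PicF.IsInvertible (L k))
    (φ : ∀ k, (Scheme.Modules.pullback (T.i k)).obj (L (k + 1)) ≅ L k) (ha : CohB1.IsAmple (L 0))
    (F : ModSys T) :
    ∃ N : ℕ, ∀ d, N ≤ d → ∀ k : ℕ,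
      Curv2.IsGloballyGenerated (CohB1.tensorMod (F.M k) (CohB1.tensorPow (L k) d)) := by
  letI : (T.X 0).Over (Spec (CommRingCat.of (A ⧸ J ^ (0 + 1)))) := ⟨T.p 0⟩
  haveI : IsProper (T.X 0 ↘ Spec (CommRingCat.of (A ⧸ J ^ (0 + 1)))) := hp
  haveI := Groth.Agent.H78.Existence.AmpleVanish.isNoetherian_of_proper (A ⧸ J ^ (0 + 1)) (X := T.X 0)
  obtain ⟨r, f, hspan⟩ := Submodule.fg_iff_exists_fin_generating_family.1 (IsNoetherian.noetherian J)
  have hJ : J = Ideal.span (Set.range f) := hspan.symm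
  have hf : ∀ j, f j ∈ J := fun j => hJ ▸ Ideal.subset_span ⟨j, rfl⟩
  obtain ⟨d₀, hd₀⟩ := Groth.Agent.H78.Existence.Vanish.exists_vanish (A ⧸ J ^ (0 + 1)) ha
    (F.sys f hf) (F.gen_sys f hf hJ)
  obtain ⟨d₁, hd₁⟩ := Ample.GG.eventually_genAt_twist ha (F.M 0) (F.coh 0)
  refine ⟨max d₀ d₁, fun d hd => ?_⟩
  intro k
  induction k with
  | zero => exact Ample.GG.isGloballyGenerated_of_genAt (hd₁ d (le_of_max_le_right hd))
  | succ k ih =>
    let S : ShortComplex (T.X (k + 1)).Modules :=
      ShortComplex.mk (F.κ (k + 1)) (F.t k) (kernel.condition _)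
    haveI := F.epi_t k
    have hS : S.ShortExact :=
      { exact := S.exact_of_f_is_kernel (kernelIsKernel (F.t k))
        mono_f := F.mono_κ (k + 1)
        epi_g := inferInstanceAs (Epi (F.t k)) }
    haveI := isEquivalence_tw (hL (k + 1)) d
    haveI : (tw (L (k + 1)) d).Additive := Functor.additive_of_preserves_binary_products _
    have hS' := shortExact_tw (hL (k + 1)) hS d
    refine gg_of_nakayama hS' ?_ ?_ ?_ ?_
    · exact CohBasics.Closure.isCoh_of_iso (TensorMod.Basic.comm _ (F.M (k + 1)))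
        (Snapper.Twist.isCoh_twist (TensorMod.Invertible.isInvertible_tensorPow (hL (k + 1)) d)
          (F.coh (k + 1)))
    · exact @Equiv.subsingleton _ _
        (Curves.LES.isoK A (TensorMod.Basic.tensorIso (F.e (k + 1))
          (Iso.refl (CohB1.tensorPow (L (k + 1)) d))) 1).toEquiv
        (subsingleton_push A (T.toT (k + 1)) (hL (k + 1)) (F.isCoh_G (k + 1)) (hL 0)
          (pullToT L φ (k + 1)) d 1 (hd₀ (k + 1) d (le_of_max_le_left hd) 0))
    · exact gg_of_epi (pushTwistIso (T.i k) (hL (k + 1)) (F.M k) (φ k) d).inv (gg_push (T.i k) ih)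
    · exact fun x v => stalk_tmap_mem (P := CohB1.tensorPow (L (k + 1)) d) (F.κ (k + 1)) x _
        (F.stalk_κ_mem k x) v

end Groth.Agent.Lib.Exchange.Thick
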