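import Groth.Agent.Lib.Exchange.Thick.Unit
import Groth.Agent.H78.Formal.Sys
import Groth.Agent.H78.Rees.System
import Groth.Agent.Lib.Modules.ClosedUnit

/-!
# Compatible coherent modules on an adic tower and the graded system of their layers

The layers `J^n F_n` are modules on the bottom level; multiplication by the elements of `J` makes
them a system generated in bounded degree.
-/

set_option autoImplicit false
set_option linter.style.haveILetI false

noncomputable section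

universe u

open CategoryTheory Limits AlgebraicGeometry Opposite TopologicalSpace

namespace Groth.Agent.Lib.Exchange.Thick

open Groth.Agent.Lib Groth.Agent.Lib.CohBasics.Affine
open Groth.Agent.H78.Formal.Sections
open Groth.Agent.H78.Formal.PullSys (smulMod_pushforward sMap_app)
open Groth.Agent.H78.FormalFun.Basic (smulMod_zero)
open Groth.Agent.H78.Formal.Principal (smulMod_mul)

variable {A : Type u} [CommRing A] {J : Ideal A}

/-- A compatible system of coherent modules on a tower. -/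
structure ModSys (T : Tower J) where
  /-- The modules. -/
  M : ∀ k, (T.X k).Modules
  coh : ∀ k, Coh.IsCoh (M k)
  /-- The compatibility. -/
  iso : ∀ k, (Scheme.Modules.pullback (T.i k)).obj (M (k + 1)) ≅ M k

namespace ModSys

instance hasFiniteBiproducts_modules (X : Scheme.{u}) : HasFiniteBiproducts X.Modules :=
  HasFiniteBiproducts.of_hasFiniteProducts

variable {T : Tower J} [∀ k, IsLocallyNoetherian (T.X k)] (F : ModSys T)

/-- Direct image from a level to the next one. -/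
abbrev pi (T : Tower J) (k : ℕ) : (T.X k).Modules ⥤ (T.X (k + 1)).Modules :=
  Scheme.Modules.pushforward (T.i k)

/-- Direct image from the bottom level. -/
abbrev pT (T : Tower J) (k : ℕ) : (T.X 0).Modules ⥤ (T.X k).Modules :=
  Scheme.Modules.pushforward (T.toT k)

lemma smul_push (n : ℕ) (N : (T.X n).Modules) (a : A) :
    (pi T n).map (_root_.Formal.smulMod A N a) = _root_.Formal.smulMod A ((pi T n).obj N) a :=
  smulMod_pushforward (T.i_over n) N a

/-- The transition map. -/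
def t (k : ℕ) : F.M (k + 1) ⟶ (pi T k).obj (F.M k) :=
  Unit.η (T.i k) (F.M (k + 1)) ≫ (pi T k).map (F.iso k).hom

lemma isCoh_pushM (k : ℕ) : Coh.IsCoh ((pi T k).obj (F.M k)) :=
  Cyc.PP.Push.isCoh_push (T.i k) (F.coh k)

/-- On affine opens the transition map is surjective, with kernel `J^(k+1)` times the sections. -/
theorem t_spec (k : ℕ) {V : (T.X (k + 1)).Opens} (hV : IsAffineOpen V) :
    Function.Surjective ((F.t k).app V) ∧ ∀ s, (F.t k).app V s = 0 ↔
      s ∈ sIdeal J V ^ (k + 1) • (⊤ : Submodule Γ(T.X (k + 1), V) Γ(F.M (k + 1), V)) := by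
  have hb := app_bijective ((pi T k).map (F.iso k).hom) V
  have e : ∀ s, (F.t k).app V s =
      ((pi T k).map (F.iso k).hom).app V ((Unit.η (T.i k) (F.M (k + 1))).app V s) := fun s => rfl
  refine ⟨fun w => ?_, fun s => ?_⟩
  · obtain ⟨v, rfl⟩ := hb.2 w
    obtain ⟨s, rfl⟩ := Unit.surjective_app (T.i k) (F.coh (k + 1)) hV v
    exact ⟨s, e s⟩
  · rw [← T.ker_i_ideal k ⟨V, hV⟩, ← Unit.app_eq_zero_iff (T.i k) (F.coh (k + 1)) hV s, e]
    exact ⟨fun h => hb.1 (h.trans (map_zero _).symm), fun h => (congrArg _ h).trans (map_zero _)⟩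

lemma epi_t (k : ℕ) : Epi (F.t k) := by
  haveI := (F.coh (k + 1)).1
  haveI := (F.isCoh_pushM k).1
  refine epi_of_cover _ fun x => ?_
  obtain ⟨U, hU, hx⟩ := exists_affine x
  exact ⟨U, hU, hx, (F.t_spec k hU).1⟩

/-- The layers. -/
def K : ∀ n, (T.X n).Modules
  | 0 => F.M 0
  | n + 1 => kernel (F.t n)

/-- The inclusion of a layer. -/
def κ : ∀ n, F.K n ⟶ F.M n
  | 0 => 𝟙 _
  | n + 1 => kernel.ι (F.t n)

instance mono_κ : ∀ n, Mono (F.κ n)
  | 0 => inferInstanceAs (Mono (𝟙 _))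
  | n + 1 => inferInstanceAs (Mono (kernel.ι (F.t n)))

lemma isCoh_K : ∀ n, Coh.IsCoh (F.K n)
  | 0 => F.coh 0
  | n + 1 => CohBasics.Closure.isCoh_kernel _ (F.coh (n + 1)) (F.isCoh_pushM n).1

lemma exists_κ_iff : ∀ (n : ℕ) {V : (T.X n).Opens}, IsAffineOpen V → ∀ s : Γ(F.M n, V),
    (∃ w, (F.κ n).app V w = s) ↔
      s ∈ sIdeal J V ^ n • (⊤ : Submodule Γ(T.X n, V) Γ(F.M n, V))
  | 0, V, hV, s => by
    rw [pow_zero, Ideal.one_eq_top, Submodule.top_smul]
    exact ⟨fun _ => trivial, fun _ => ⟨s, rfl⟩⟩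
  | n + 1, V, hV, s => by
    rw [← (F.t_spec n hV).2]
    constructor
    · rintro ⟨w, rfl⟩
      exact ConcreteCategory.congr_hom (congrArg (fun χ => χ.app V) (kernel.condition (F.t n))) w
    · intro hs
      let S := ShortComplex.mk (kernel.ι (F.t n)) (F.t n) (kernel.condition _)
      haveI : Mono S.f := inferInstanceAs (Mono (kernel.ι (F.t n)))
      exact QCoh.Closure.sections_exact (S := S)
        (S.exact_of_f_is_kernel (kernelIsKernel (F.t n))) V s hs

lemma smul_mem_bot {n : ℕ} {V : (T.X n).Opens} {a : A} (ha : a ∈ J) {s : Γ(F.M n, V)}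
    (hs : s ∈ sIdeal J V ^ n • (⊤ : Submodule Γ(T.X n, V) Γ(F.M n, V))) : sMap A V a • s = 0 := by
  have h := Submodule.smul_mem_smul (mem_sIdeal (U := V) ha) hs
  rwa [← mul_smul, ← pow_succ', T.sIdeal_pow_eq_bot n V, Submodule.bot_smul, Submodule.mem_bot] at h

lemma κ_smul (n : ℕ) {a : A} (ha : a ∈ J) : F.κ n ≫ _root_.Formal.smulMod A (F.M n) a = 0 := by
  haveI := (F.isCoh_K n).1
  refine hom_ext_affine fun V hV w => ?_
  change (_root_.Formal.smulMod A (F.M n) a).app V ((F.κ n).app V w) = 0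
  rw [smulMod_app]
  exact F.smul_mem_bot ha ((F.exists_κ_iff n hV _).1 ⟨w, rfl⟩)

lemma exists_ν (n : ℕ) {a : A} (ha : a ∈ J) :
    ∃ ν : (pi T n).obj (F.M n) ⟶ F.M (n + 1), F.t n ≫ ν = _root_.Formal.smulMod A _ a := by
  haveI := (F.coh (n + 1)).1
  haveI := (F.isCoh_pushM n).1
  haveI := F.epi_t n
  refine Groth.Agent.H78.Formal.Sys.exists_desc _ _ fun U hU s hs => ?_
  rw [smulMod_app]
  exact F.smul_mem_bot ha (((F.t_spec n hU).2 s).1 hs)

/-- Multiplication by an element of `J`, as a map to the next level. -/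
def ν (n : ℕ) {a : A} (ha : a ∈ J) : (pi T n).obj (F.M n) ⟶ F.M (n + 1) := (F.exists_ν n ha).choose

@[reassoc]
lemma t_ν (n : ℕ) {a : A} (ha : a ∈ J) : F.t n ≫ F.ν n ha = _root_.Formal.smulMod A _ a :=
  (F.exists_ν n ha).choose_spec

lemma ν_t (n : ℕ) {a : A} (ha : a ∈ J) : F.ν n ha ≫ F.t n = _root_.Formal.smulMod A _ a := by
  haveI := F.epi_t n
  rw [← cancel_epi (F.t n), t_ν_assoc, smulMod_comp]

lemma pushκ_ν_t (n : ℕ) {a : A} (ha : a ∈ J) : ((pi T n).map (F.κ n) ≫ F.ν n ha) ≫ F.t n = 0 := by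
  rw [Category.assoc, ν_t, ← smul_push, ← Functor.map_comp, F.κ_smul n ha, Functor.map_zero]

/-- Multiplication by an element of `J` between the layers. -/
def xK (n : ℕ) {a : A} (ha : a ∈ J) : (pi T n).obj (F.K n) ⟶ F.K (n + 1) :=
  kernel.lift (F.t n) ((pi T n).map (F.κ n) ≫ F.ν n ha) (F.pushκ_ν_t n ha)

@[reassoc]
lemma xK_κ (n : ℕ) {a : A} (ha : a ∈ J) :
    F.xK n ha ≫ F.κ (n + 1) = (pi T n).map (F.κ n) ≫ F.ν n ha :=
  kernel.lift_ι _ _ _

lemma ν_comm (n : ℕ) {a b : A} (ha : a ∈ J) (hb : b ∈ J) :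
    (pi T (n + 1)).map (F.ν n ha) ≫ F.ν (n + 1) hb =
      (pi T (n + 1)).map (F.ν n hb) ≫ F.ν (n + 1) ha := by
  haveI : Epi ((pi T (n + 1)).map (F.t n)) := by
    haveI := (Cyc.PP.Push.isCoh_push (T.i (n + 1)) (F.coh (n + 1))).1
    haveI := (Cyc.PP.Push.isCoh_push (T.i (n + 1)) (F.isCoh_pushM n)).1
    refine epi_of_cover _ fun x => ?_
    obtain ⟨U, hU, hx⟩ := exists_affine x
    exact ⟨U, hU, hx, (F.t_spec n (hU.preimage (T.i (n + 1)))).1⟩
  haveI := F.epi_t (n + 1)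
  have h : ∀ {c e : A} (hc : c ∈ J) (he : e ∈ J),
      F.t (n + 1) ≫ (pi T (n + 1)).map (F.t n) ≫ (pi T (n + 1)).map (F.ν n hc) ≫ F.ν (n + 1) he =
        _root_.Formal.smulMod A (F.M (n + 1 + 1)) (c * e) := fun {c e} hc he => by
    rw [← Functor.map_comp_assoc, t_ν, smul_push, ← Category.assoc, ← smulMod_comp, Category.assoc,
      t_ν, ← smulMod_mul]
  rw [← cancel_epi ((pi T (n + 1)).map (F.t n)), ← cancel_epi (F.t (n + 1)), h ha hb, h hb ha,
    mul_comm]

lemma xK_comm (n : ℕ) {a b : A} (ha : a ∈ J) (hb : b ∈ J) :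
    (pi T (n + 1)).map (F.xK n ha) ≫ F.xK (n + 1) hb =
      (pi T (n + 1)).map (F.xK n hb) ≫ F.xK (n + 1) ha := by
  rw [← cancel_mono (F.κ (n + 1 + 1)), Category.assoc, Category.assoc, xK_κ, xK_κ,
    ← Functor.map_comp_assoc, ← Functor.map_comp_assoc, xK_κ, xK_κ, Functor.map_comp_assoc,
    Functor.map_comp_assoc, F.ν_comm n ha hb]

/-- The layers on the bottom level. -/
def G (n : ℕ) : (T.X 0).Modules := (Scheme.Modules.pullback (T.toT n)).obj (F.K n)

lemma isCoh_G (n : ℕ) : Coh.IsCoh (F.G n) := Cyc.FP.Stalk.isCoh_pullback _ (F.isCoh_K n)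

lemma isIso_unit_K (n : ℕ) : IsIso (Unit.η (T.toT n) (F.K n)) := by
  refine Modules.ClosedUnit.isIso_unit (T.toT n) (F.K n) fun U a ha s => ?_
  rw [T.ker_toT_ideal] at ha
  refine QCoh.Closure.sections_injective_of_mono (F.κ n) U.1 ?_
  rw [map_zero, Scheme.Modules.Hom.app_smul]
  have h := (F.exists_κ_iff n U.2 _).1 ⟨s, rfl⟩
  have h2 := Submodule.smul_mem_smul ha h
  rwa [← mul_smul, ← pow_succ', T.sIdeal_pow_eq_bot n U.1, Submodule.bot_smul,
    Submodule.mem_bot] at h2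

/-- A layer is the direct image of a module on the bottom level. -/
def e (n : ℕ) : F.K n ≅ (pT T n).obj (F.G n) :=
  @asIso _ _ _ _ (Unit.η (T.toT n) (F.K n)) (F.isIso_unit_K n)

/-- Direct images from the bottom level compose. -/
def C (T : Tower J) (n : ℕ) : pT T n ⋙ pi T n ≅ pT T (n + 1) :=
  Scheme.Modules.pushforwardComp (T.toT n) (T.i n)

/-- Direct image from the bottom level is fully faithful. -/
def ffT (T : Tower J) (n : ℕ) : (pT T n).FullyFaithful :=
  haveI := fun N => Cyc.Dev.SchemeCase.isIso_counit (T.toT n) N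
  haveI : IsIso (Scheme.Modules.pullbackPushforwardAdjunction (T.toT n)).counit :=
    NatIso.isIso_of_isIso_app _
  (Scheme.Modules.pullbackPushforwardAdjunction (T.toT n)).fullyFaithfulROfIsIsoCounit

/-- Multiplication between the layers, seen after direct image. -/
def w (n : ℕ) {a : A} (ha : a ∈ J) : (pT T (n + 1)).obj (F.G n) ⟶ (pT T (n + 1)).obj (F.G (n + 1)) :=
  (C T n).inv.app (F.G n) ≫ (pi T n).map (F.e n).inv ≫ F.xK n ha ≫ (F.e (n + 1)).hom

/-- Multiplication between the layers on the bottom level. -/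
def x (n : ℕ) {a : A} (ha : a ∈ J) : F.G n ⟶ F.G (n + 1) := (ffT T (n + 1)).preimage (F.w n ha)

lemma map_x (n : ℕ) {a : A} (ha : a ∈ J) : (pT T (n + 1)).map (F.x n ha) = F.w n ha :=
  (ffT T (n + 1)).map_preimage _

lemma x_comm (n : ℕ) {a b : A} (ha : a ∈ J) (hb : b ∈ J) :
    F.x n ha ≫ F.x (n + 1) hb = F.x n hb ≫ F.x (n + 1) ha := by
  have key : ∀ {c d : A} (hc : c ∈ J) (hd : d ∈ J),
      (pT T (n + 1 + 1)).map (F.x n hc ≫ F.x (n + 1) hd) =
        (C T (n + 1)).inv.app (F.G n) ≫ (pi T (n + 1)).map ((C T n).inv.app (F.G n)) ≫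
          (pi T (n + 1)).map ((pi T n).map (F.e n).inv) ≫
            ((pi T (n + 1)).map (F.xK n hc) ≫ F.xK (n + 1) hd) ≫ (F.e (n + 1 + 1)).hom := by
    intro c d hc hd
    have hnat := (C T (n + 1)).inv.naturality (F.x n hc)
    simp only [Functor.comp_map] at hnat
    rw [Functor.map_comp, map_x, w, reassoc_of% hnat, map_x, w, ← Functor.map_comp_assoc]
    simp only [Category.assoc, Iso.hom_inv_id, Category.comp_id, Functor.map_comp]
  exact (ffT T (n + 1 + 1)).map_injective (by rw [key ha hb, key hb ha, F.xK_comm n ha hb])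

variable {r : ℕ} (f : Fin r → A) (hf : ∀ j, f j ∈ J)

/-- The system of the layers. -/
def sys : Groth.Agent.H78.Rees.System.Sys (T.X 0) r where
  G := F.G
  coh := F.isCoh_G
  x j n := F.x n (hf j)
  comm j l n := F.x_comm n (hf j) (hf l)

lemma C_w_κ (n : ℕ) {a : A} (ha : a ∈ J) :
    (pi T n).map (F.e n).hom ≫ (C T n).hom.app (F.G n) ≫ F.w n ha ≫ (F.e (n + 1)).inv ≫ F.κ (n + 1) =
      (pi T n).map (F.κ n) ≫ F.ν n ha := by
  rw [w]
  simp only [Category.assoc, Iso.hom_inv_id_app_assoc, Iso.hom_inv_id_assoc]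
  rw [← Functor.map_comp_assoc, Iso.hom_inv_id, CategoryTheory.Functor.map_id, Category.id_comp, xK_κ]

/-- All the multiplications at once. -/
abbrev φ (n : ℕ) : (⨁ fun _ : Fin r => F.G n) ⟶ F.G (n + 1) :=
  biproduct.desc fun j => F.x n (hf j)

lemma isQCoh_biproduct (n : ℕ) : (⨁ fun _ : Fin r => F.G n).IsQuasicoherent :=
  QCoh.Closure.isQCoh_of_isColimit (biproduct.isColimit fun _ : Fin r => F.G n)
    fun _ => (F.isCoh_G n).1

theorem epi_φ (hJ : J = Ideal.span (Set.range f)) (n : ℕ) : Epi (F.φ f hf n) := by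
  haveI := (ffT T (n + 1)).faithful
  suffices h : Epi ((pT T (n + 1)).map (F.φ f hf n)) from (pT T (n + 1)).epi_of_epi_map h
  have hB : Coh.IsCoh ((pT T (n + 1)).obj (F.G (n + 1))) :=
    CohBasics.Closure.isCoh_of_iso (F.e (n + 1)) (F.isCoh_K (n + 1))
  haveI := hB.1
  haveI := F.isQCoh_biproduct (r := r) n
  haveI : ((pT T (n + 1)).obj (⨁ fun _ : Fin r => F.G n)).IsQuasicoherent :=
    QCoh.Pushforward.isQCoh_pushforward (T.toT (n + 1))
  refine epi_of_cover _ fun y => ?_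
  obtain ⟨V, hV, hy⟩ := exists_affine y
  refine ⟨V, hV, hy, fun z => ?_⟩
  haveI := F.mono_κ (n + 1)
  let incl := (F.e (n + 1)).inv ≫ F.κ (n + 1)
  let P := Submodule.map (secₗ incl V) (LinearMap.range (secₗ ((pT T (n + 1)).map (F.φ f hf n)) V))
  have hz : incl.app V z ∈
      sIdeal J V • sIdeal J V ^ n • (⊤ : Submodule Γ(T.X (n + 1), V) Γ(F.M (n + 1), V)) := by
    rw [← mul_smul, ← pow_succ']
    exact (F.exists_κ_iff (n + 1) hV _).1 ⟨(F.e (n + 1)).inv.app V z, rfl⟩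
  have hle : sIdeal J V • sIdeal J V ^ n • (⊤ : Submodule Γ(T.X (n + 1), V) Γ(F.M (n + 1), V)) ≤ P := by
    refine Submodule.smul_le.2 fun a ha m hm => ?_
    have hspan : sIdeal J V = Ideal.span (Set.range fun j => sMap A V (f j)) := by
      refine ((congrArg (fun I : Ideal A => I.map (sMap A V)) hJ).trans (Ideal.map_span _ _)).trans ?_
      rw [← Set.range_comp]; rfl
    rw [hspan] at ha
    refine (Ideal.span_le.2 ?_ : Ideal.span (Set.range fun j => sMap A V (f j)) ≤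
      Submodule.comap (LinearMap.toSpanSingleton Γ(T.X (n + 1), V) _ m) P) ha
    rintro _ ⟨j, rfl⟩
    have hU : IsAffineOpen (T.i n ⁻¹ᵁ V) := hV.preimage _
    have hsub : (sIdeal J V).map ((T.i n).app V).hom = sIdeal J (T.i n ⁻¹ᵁ V) := by
      rw [sIdeal, sIdeal, Ideal.map_map]
      congr 1
      exact RingHom.ext fun a => sMap_app (T.i_over n) V a
    have hm' : (show Γ(F.M n, T.i n ⁻¹ᵁ V) from (F.t n).app V m) ∈
        sIdeal J (T.i n ⁻¹ᵁ V) ^ n • (⊤ : Submodule Γ(T.X n, T.i n ⁻¹ᵁ V) Γ(F.M n, T.i n ⁻¹ᵁ V)) := by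
      refine Submodule.smul_induction_on (p := fun m => (show Γ(F.M n, T.i n ⁻¹ᵁ V) from (F.t n).app V m) ∈
        sIdeal J (T.i n ⁻¹ᵁ V) ^ n • (⊤ : Submodule Γ(T.X n, T.i n ⁻¹ᵁ V) Γ(F.M n, T.i n ⁻¹ᵁ V)))
        hm (fun c hc d _ => ?_) fun x y hx hy => ?_
      · rw [(F.t n).app_smul]
        refine Submodule.smul_mem_smul ?_ trivial
        rw [← hsub, ← Ideal.map_pow]
        exact Ideal.mem_map_of_mem _ hc
      · rw [map_add]; exact Submodule.add_mem _ hx hy
    obtain ⟨v, hv⟩ := (F.exists_κ_iff n hU _).2 hm'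
    let ψ : (pi T n).obj (F.K n) ⟶ (pT T (n + 1)).obj (⨁ fun _ : Fin r => F.G n) :=
      (pi T n).map (F.e n).hom ≫ (C T n).hom.app (F.G n) ≫
        (pT T (n + 1)).map (biproduct.ι (fun _ : Fin r => F.G n) j)
    have hψ : ψ ≫ (pT T (n + 1)).map (F.φ f hf n) ≫ incl = (pi T n).map (F.κ n) ≫ F.ν n (hf j) := by
      simp only [ψ, incl, Category.assoc]
      rw [← Functor.map_comp_assoc, biproduct.ι_desc, map_x, C_w_κ]
    change sMap A V (f j) • m ∈ P
    refine ⟨((pT T (n + 1)).map (F.φ f hf n)).app V (ψ.app V v), ⟨_, rfl⟩, ?_⟩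
    refine (ConcreteCategory.congr_hom (congrArg (fun χ => χ.app V) hψ) v).trans ?_
    change (F.ν n (hf j)).app V ((F.κ n).app (T.i n ⁻¹ᵁ V) v) = _
    rw [hv, ← smulMod_app, ← F.t_ν n (hf j)]
    rfl
  obtain ⟨_, ⟨s, rfl⟩, he⟩ := hle hz
  exact ⟨s, QCoh.Closure.sections_injective_of_mono incl V he⟩

theorem gen_sys (hJ : J = Ideal.span (Set.range f)) :
    Groth.Agent.H78.Rees.System.Gen (F.sys f hf) := by
  intro U hU
  refine ⟨0, fun n _ z _ => ?_⟩
  haveI := F.epi_φ f hf hJ n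
  haveI := F.isQCoh_biproduct (r := r) n
  haveI := (F.isCoh_G (n + 1)).1
  obtain ⟨s, rfl⟩ := QCoh.Closure.sections_surjective_of_epi (F.φ f hf n) hU z
  let ev : ((⨁ fun _ : Fin r => F.G n) ⟶ F.G (n + 1)) →+ Γ(F.G (n + 1), U) :=
    { toFun := fun χ => χ.app U s
      map_zero' := rfl
      map_add' := fun _ _ => rfl }
  have h : ev (F.φ f hf n) = ∑ j, ev (biproduct.π (fun _ : Fin r => F.G n) j ≫ F.x n (hf j)) := by
    rw [← map_sum]
    exact congrArg ev biproduct.desc_eq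
  change ev (F.φ f hf n) ∈ ⨆ i, LinearMap.range (secₗ (F.x n (hf i)) U)
  rw [h]
  exact Submodule.sum_mem _ fun j _ =>
    Submodule.mem_iSup_of_mem j ⟨(biproduct.π (fun _ : Fin r => F.G n) j).app U s, rfl⟩

end ModSys

end Groth.Agent.Lib.Exchange.Thick
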